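import Groth.Agent.ThickSys.Alg
import Groth.Agent.BlowUpLib.Cartier
import Groth.Prelude.Def_FSch3

/-!
# Ideal sheaves of closed immersions and Noetherian thickenings
-/

universe u

set_option backward.isDefEq.respectTransparency false

open CategoryTheory CategoryTheory.Limits AlgebraicGeometry TopologicalSpace

namespace Groth.Agent.ThickSys

variable {X Y Z : Scheme.{u}}

theorem comap_pow (I : Y.IdealSheafData) (f : X ⟶ Y) (n : ℕ) : (I ^ n).comap f = I.comap f ^ n := by
  induction n with
  | zero => rw [pow_zero, pow_zero, Scheme.IdealSheafData.one_eq_top, Scheme.IdealSheafData.comap_top,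
      Scheme.IdealSheafData.one_eq_top]
  | succ n ih => rw [pow_succ, pow_succ, BlowUpLib.comap_mul, ih]

/-- The kernel of a closed immersion followed by a monomorphic closed immersion. -/
theorem ker_eq_comap_ker_comp (a : X ⟶ Y) (b : Y ⟶ Z) [IsClosedImmersion a] [IsClosedImmersion b] :
    a.ker = (a ≫ b).ker.comap b := by
  have sq : IsPullback a (𝟙 X) b (a ≫ b) :=
    IsPullback.of_iso (IsPullback.of_hasPullback b (a ≫ b))
      { hom := pullback.snd b (a ≫ b)
        inv := pullback.lift a (𝟙 X) (by simp)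
        hom_inv_id := by
          refine pullback.hom_ext ?_ (by simp)
          rw [Category.assoc, pullback.lift_fst, Category.id_comp, ← cancel_mono b, Category.assoc,
            pullback.condition]
        inv_hom_id := by simp }
      (Iso.refl _) (Iso.refl _) (Iso.refl _) (by simp [← cancel_mono b, pullback.condition]) (by simp)
      (by simp) (by simp)
  rw [← Scheme.IdealSheafData.ker_fst_of_isClosedImmersion, ← Scheme.Hom.ker_comp_of_isIso sq.isoPullback.hom,
    IsPullback.isoPullback_hom_fst]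

theorem comap_ker_self (i : X ⟶ Y) [IsClosedImmersion i] : i.ker.comap i = ⊥ := by
  have h := ker_eq_comap_ker_comp (𝟙 X) i
  rw [Category.id_comp, Scheme.Hom.ker_eq_bot_of_isIso] at h
  exact h.symm

/-- Ideal sheaves of `Spec A` cut out by ideals. -/
theorem idealSpec_eq (A : Type u) [CommRing A] (J : Ideal A) :
    FSch.idealSpec A J = Scheme.IdealSheafData.equivOfIsAffine.symm
      (J.map (Scheme.ΓSpecIso (CommRingCat.of A)).inv.hom) := by
  rw [Scheme.IdealSheafData.equivOfIsAffine_symm_apply, FSch.idealSpec, Scheme.ker_of_isAffine]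
  congr 1
  let e := Scheme.ΓSpecIso (CommRingCat.of A)
  let q := CommRingCat.ofHom (Ideal.Quotient.mk J)
  have hmap : J.map e.inv.hom = J.comap e.hom.hom := Ideal.map_symm (I := J) e.commRingCatIsoToRingEquiv
  rw [hmap]
  ext x
  rw [RingHom.mem_ker, Ideal.mem_comap, ← Ideal.Quotient.eq_zero_iff_mem,
    ← map_eq_zero_iff (Scheme.ΓSpecIso (CommRingCat.of (A ⧸ J))).hom.hom
      (ConcreteCategory.bijective_of_isIso _).1]
  have := CategoryTheory.ConcreteCategory.congr_hom (Scheme.ΓSpecIso_naturality q) x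
  exact ⟨fun h => this.symm.trans h, fun h => this.trans h⟩

theorem idealSpec_pow (A : Type u) [CommRing A] (J : Ideal A) (n : ℕ) :
    FSch.idealSpec A (J ^ n) = FSch.idealSpec A J ^ n := by
  rw [idealSpec_eq, idealSpec_eq, Ideal.map_pow, map_pow]

/-- Noetherianity climbs one step of a thickening. -/
theorem isLocallyNoetherian_step (i : Z ⟶ X) [IsClosedImmersion i] [IsLocallyNoetherian Z]
    (K : X.IdealSheafData) (m : ℕ) (hm : 1 ≤ m) (hker : i.ker = K ^ m) (hK : K ^ (m + 1) = ⊥)
    (hft : m = 1 → ∀ x : X, ∃ U : X.affineOpens, x ∈ U.1 ∧ (K.ideal U).FG) : IsLocallyNoetherian X := by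
  have hU : ∀ x : X, ∃ U : X.affineOpens, x ∈ U.1 ∧ IsNoetherianRing Γ(X, U.1) := by
    intro x
    have hfg : ∃ U : X.affineOpens, x ∈ U.1 ∧ (m = 1 → (K.ideal U).FG) := by
      by_cases h : m = 1
      · obtain ⟨U, hx, hU⟩ := hft h x
        exact ⟨U, hx, fun _ => hU⟩
      · obtain ⟨U, hU, hx, -⟩ := exists_isAffineOpen_mem_and_subset (U := (⊤ : X.Opens)) (x := x) trivial
        exact ⟨⟨U, hU⟩, hx, fun h' => absurd h' h⟩
    obtain ⟨U, hx, hU⟩ := hfg
    refine ⟨U, hx, ?_⟩
    have hnil : IsNilpotent (K.ideal U) := ⟨m + 1, by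
      have := congrArg (fun J : X.IdealSheafData => J.ideal U) hK
      rwa [Scheme.IdealSheafData.ideal_pow, Pi.pow_apply] at this⟩
    have hk : RingHom.ker (i.app U.1).hom = K.ideal U ^ m := by
      rw [← Scheme.Hom.ker_apply, hker, Scheme.IdealSheafData.ideal_pow, Pi.pow_apply]
    haveI : IsNoetherianRing Γ(Z, i ⁻¹ᵁ U.1) :=
      IsLocallyNoetherian.component_noetherian ⟨i ⁻¹ᵁ U.1, U.2.preimage i⟩
    haveI : IsNoetherianRing (Γ(X, U.1) ⧸ K.ideal U ^ m) :=
      isNoetherianRing_of_ringEquiv Γ(Z, i ⁻¹ᵁ U.1) ((Ideal.quotEquivOfEq hk).symm.trans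
        (RingHom.quotientKerEquivOfSurjective (i.app_surjective U.1 U.2))).symm
    have hfg : (K.ideal U).FG := by
      by_cases h : m = 1
      · exact hU h
      · exact fg_of_isNoetherian_quotient_pow hnil (show 2 ≤ m by omega)
    haveI : IsNoetherianRing (Γ(X, U.1) ⧸ K.ideal U) :=
      isNoetherianRing_of_surjective (Γ(X, U.1) ⧸ K.ideal U ^ m) _
        (Ideal.Quotient.factor (Ideal.pow_le_self (by omega))) (Ideal.Quotient.factor_surjective _)
    exact isNoetherianRing_of_nilpotent hnil hfg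
  choose U hxU hUn using hU
  exact isLocallyNoetherian_of_affine_cover (S := U)
    (eq_top_iff.2 fun x _ => Opens.mem_iSup.2 ⟨x, hxU x⟩) hUn

end Groth.Agent.ThickSys
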