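import Groth.Agent.ThickSys.Sheaf

/-!
# Adic systems of thickenings
-/

universe u

set_option backward.isDefEq.respectTransparency false
set_option linter.style.haveILetI false

open CategoryTheory CategoryTheory.Limits AlgebraicGeometry TopologicalSpace FSch

namespace Groth.Agent.ThickSys

/-- The kernel of a base change of a closed immersion is the inverse image of the kernel. -/
theorem ker_of_isPullback {P A B C : Scheme.{u}} {a : P ⟶ A} {b : P ⟶ B} {c : A ⟶ C} {d : B ⟶ C}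
    (sq : IsPullback a b c d) [IsClosedImmersion d] : a.ker = d.ker.comap c := by
  rw [← Scheme.IdealSheafData.ker_fst_of_isClosedImmersion, ← sq.isoPullback_hom_fst,
    Scheme.Hom.ker_comp_of_isIso]

variable {𝔛 𝔖 : Sys.{u}}

theorem closed_surj_toX (hF : 𝔛.IsFormal) :
    ∀ n, IsClosedImmersion (𝔛.toX n) ∧ Surjective (𝔛.toX n)
  | 0 => ⟨inferInstanceAs (IsClosedImmersion (𝟙 _)), inferInstanceAs (Surjective (𝟙 _))⟩
  | n + 1 => by
    obtain ⟨_, _⟩ := closed_surj_toX hF n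
    haveI := (hF n).1
    haveI : Surjective (𝔛.ι n) := ⟨(hF n).2⟩
    exact ⟨inferInstanceAs (IsClosedImmersion (_ ≫ _)), inferInstanceAs (Surjective (_ ≫ _))⟩

theorem comap_ker_toX (hF : 𝔛.IsFormal) (n : ℕ) :
    ((𝔛.toX (n + 1)).ker).comap (𝔛.ι n) = (𝔛.toX n).ker := by
  haveI := (closed_surj_toX hF n).1
  haveI := (hF n).1
  exact (ker_eq_comap_ker_comp (𝔛.toX n) (𝔛.ι n)).symm

theorem ker_toX_pow_succ (hF : 𝔛.IsFormal) (hA : 𝔛.IsAdic) (n : ℕ) :
    (𝔛.toX n).ker ^ (n + 1) = ⊥ := by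
  haveI := (hF n).1
  rw [← comap_ker_toX hF n, ← comap_pow, ← hA n, comap_ker_self]

/-- The levels of an adic system over a locally Noetherian scheme with locally finitely generated
first kernel are locally Noetherian. -/
theorem isLocallyNoetherian_level (hF : 𝔛.IsFormal) (hA : 𝔛.IsAdic) (h0 : IsLocallyNoetherian (𝔛.X 0))
    (hft : ∀ x : 𝔛.X 1, ∃ U : (𝔛.X 1).affineOpens, x ∈ U.1 ∧ ((𝔛.ι 0).ker.ideal U).FG) :
    ∀ n, IsLocallyNoetherian (𝔛.X n)
  | 0 => h0
  | n + 1 => by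
    haveI := isLocallyNoetherian_level hF hA h0 hft n
    haveI := (hF n).1
    refine isLocallyNoetherian_step (𝔛.ι n) (𝔛.toX (n + 1)).ker (n + 1) (by omega) (hA n)
      (ker_toX_pow_succ hF hA (n + 1)) fun h => ?_
    obtain rfl : n = 0 := by omega
    rw [show 𝔛.toX (0 + 1) = 𝔛.ι 0 from Category.id_comp _]
    exact hft

theorem isPullback_toX (f : 𝔛 ⟶ 𝔖) (hf : IsAdicHom f) :
    ∀ n, IsPullback (𝔛.toX n) ((f : Hom 𝔛 𝔖).app 0) ((f : Hom 𝔛 𝔖).app n) (𝔖.toX n)
  | 0 => by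
    change IsPullback (𝟙 _) _ _ (𝟙 _)
    exact IsPullback.of_horiz_isIso ⟨by simp⟩
  | n + 1 => (isPullback_toX f hf n).paste_horiz (hf n)

theorem isFormal_of_isAdicHom (f : 𝔛 ⟶ 𝔖) (h : 𝔖.IsFormal) (hf : IsAdicHom f) : 𝔛.IsFormal := fun n => by
  haveI := (h n).1
  haveI : Surjective (𝔖.ι n) := ⟨(h n).2⟩
  exact ⟨MorphismProperty.of_isPullback (P := @IsClosedImmersion) (hf n).flip inferInstance,
    (MorphismProperty.of_isPullback (P := @Surjective) (hf n).flip inferInstance).1⟩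

theorem isAdic_of_isAdicHom (f : 𝔛 ⟶ 𝔖) (h : 𝔖.IsFormal) (hA : 𝔖.IsAdic) (hf : IsAdicHom f) : 𝔛.IsAdic :=
  fun n => by
    haveI := (h n).1
    haveI := (closed_surj_toX h (n + 1)).1
    rw [ker_of_isPullback (hf n), ker_of_isPullback (isPullback_toX f hf (n + 1)), hA n, comap_pow]

theorem isLocNoethFormal_of_isAdicHom (f : 𝔛 ⟶ 𝔖) (h : 𝔖.IsLocNoethFormal) (hf : IsAdicHom f)
    [IsLocallyNoetherian (𝔛.X 0)] : 𝔛.IsLocNoethFormal := by
  refine ⟨isFormal_of_isAdicHom f h.1 hf, isAdic_of_isAdicHom f h.1 h.2.1 hf,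
    isLocallyNoetherian_level (isFormal_of_isAdicHom f h.1 hf) (isAdic_of_isAdicHom f h.1 h.2.1 hf) ‹_› fun x => ?_⟩
  haveI := h.2.2 1
  haveI := (h.1 0).1
  obtain ⟨O, hO, hxO, -⟩ := exists_isAffineOpen_mem_and_subset (U := (⊤ : (𝔖.X 1).Opens))
    (x := (f : Hom 𝔛 𝔖).app 1 x) trivial
  obtain ⟨U, hU, hxU, hle⟩ := exists_isAffineOpen_mem_and_subset
    (U := (f : Hom 𝔛 𝔖).app 1 ⁻¹ᵁ O) (x := x) hxO
  refine ⟨⟨U, hU⟩, hxU, ?_⟩
  rw [ker_of_isPullback (hf 0), FpqcDescent.ideal_comap_appLE _ _ ⟨O, hO⟩ ⟨U, hU⟩ hle]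
  haveI := IsLocallyNoetherian.component_noetherian (X := 𝔖.X 1) ⟨O, hO⟩
  exact Ideal.FG.map (IsNoetherian.noetherian ((𝔖.ι 0).ker.ideal ⟨O, hO⟩)) _

/-- The fibre product system is adic over the second factor. -/
theorem isAdicHom_pullbackSnd {𝔖' : Sys.{u}} (f : 𝔛 ⟶ 𝔖) (g : 𝔖' ⟶ 𝔖) (hf : IsAdicHom f) :
    IsAdicHom (pullbackSnd f g) := fun n => by
  have h := (IsPullback.of_hasPullback ((f : Hom 𝔛 𝔖).app n) ((g : Hom 𝔖' 𝔖).app n)).paste_horiz (hf n)
  rw [show pullback.fst ((f : Hom 𝔛 𝔖).app n) ((g : Hom 𝔖' 𝔖).app n) ≫ 𝔛.ι n =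
      (pullbackSys f g).ι n ≫ pullback.fst ((f : Hom 𝔛 𝔖).app (n + 1)) ((g : Hom 𝔖' 𝔖).app (n + 1)) from
      (pullback.lift_fst _ _ _).symm, (g : Hom 𝔖' 𝔖).comm n] at h
  exact IsPullback.of_right h (pullback.lift_snd _ _ _)
    (IsPullback.of_hasPullback ((f : Hom 𝔛 𝔖).app (n + 1)) ((g : Hom 𝔖' 𝔖).app (n + 1)))

end Groth.Agent.ThickSys

namespace Groth.Agent.ThickSys

/-- Base change of closed subschemes along an ideal inclusion squares. -/
theorem isPullback_subschemeMap {X Y : Scheme.{u}} (f : X ⟶ Y) (I : X.IdealSheafData) (J : Y.IdealSheafData)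
    (H : J ≤ I.map f) (hJ : J.comap f = I) :
    IsPullback I.subschemeι (Scheme.IdealSheafData.subschemeMap I J f H) f J.subschemeι :=
  isPullback_of_isClosedImmersion I.subschemeι J.subschemeι _ f
    (Scheme.IdealSheafData.subschemeMap_subschemeι I J f H).symm
    (by rw [Scheme.IdealSheafData.ker_subschemeι, Scheme.IdealSheafData.ker_subschemeι, hJ])

/-- Squares between two base changes of the closed immersions of the same subscheme tower. -/
theorem isPullback_step {P Q A B C D : Scheme.{u}} {a : P ⟶ A} {b : P ⟶ Q} {c : A ⟶ C} {d : Q ⟶ B}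
    {e : A ⟶ B} {g : B ⟶ D} {x : C ⟶ D} (sqB : IsPullback c e x g) (sqA : IsPullback (a ≫ c) b x (d ≫ g))
    (w : a ≫ e = b ≫ d) : IsPullback a b e d :=
  IsPullback.of_right sqA w sqB

end Groth.Agent.ThickSys

namespace Groth.Agent.ThickSys

/-- Levelwise cartesian squares of systems are cartesian. -/
theorem isPullback_of_levelwise {P A B C : Sys.{u}} {a : P ⟶ A} {b : P ⟶ B} {c : A ⟶ C} {d : B ⟶ C}
    (sq : ∀ n, IsPullback ((a : Hom P A).app n) ((b : Hom P B).app n) ((c : Hom A C).app n) ((d : Hom B C).app n)) :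
    IsPullback a b c d := by
  refine IsPullback.of_isLimit' ⟨FSch.Hom.ext (funext fun n => (sq n).w)⟩
    (PullbackCone.IsLimit.mk _ (fun s => ⟨fun n => (sq n).lift ((s.fst : Hom _ _).app n) ((s.snd : Hom _ _).app n)
      (congrFun (congrArg FSch.Hom.app s.condition) n), fun n => ?_⟩) ?_ ?_ ?_)
  · refine (sq (n + 1)).hom_ext ?_ ?_
    · rw [Category.assoc, Category.assoc, ← (a : Hom P A).comm n, IsPullback.lift_fst, ← Category.assoc,
        IsPullback.lift_fst, (s.fst : Hom _ _).comm n]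
    · rw [Category.assoc, Category.assoc, ← (b : Hom P B).comm n, IsPullback.lift_snd, ← Category.assoc,
        IsPullback.lift_snd, (s.snd : Hom _ _).comm n]
  · exact fun s => FSch.Hom.ext (funext fun n => (sq n).lift_fst _ _ _)
  · exact fun s => FSch.Hom.ext (funext fun n => (sq n).lift_snd _ _ _)
  · intro s m h1 h2
    refine FSch.Hom.ext (funext fun n => (sq n).hom_ext ?_ ?_)
    · exact (congrFun (congrArg FSch.Hom.app h1) n).trans ((sq n).lift_fst _ _ _).symm
    · exact (congrFun (congrArg FSch.Hom.app h2) n).trans ((sq n).lift_snd _ _ _).symm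

/-- Completions commute with fibre products. -/
theorem isPullback_completionMap {X Y S P : Scheme.{u}} {g : X ⟶ S} {h : Y ⟶ S} {p : P ⟶ X} {q : P ⟶ Y}
    (sq : IsPullback p q g h) (R : X.IdealSheafData) (J : S.IdealSheafData)
    (hg : PowCompat g R J) (hh : PowCompat h (J.comap h) J)
    (hp : PowCompat p (R.comap p) R) (hq : PowCompat q (R.comap p) (J.comap h)) :
    IsPullback (completionMap p (R.comap p) R hp) (completionMap q (R.comap p) (J.comap h) hq)
      (completionMap g R J hg) (completionMap h (J.comap h) J hh) := by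
  refine isPullback_of_levelwise fun n => ?_
  have sq1 := isPullback_subschemeMap p _ _ (Scheme.IdealSheafData.le_map_iff_comap_le.mpr (hp n)) (comap_pow R p (n + 1))
  have sq3 := isPullback_subschemeMap h _ _ (Scheme.IdealSheafData.le_map_iff_comap_le.mpr (hh n)) (comap_pow J h (n + 1))
  have big := sq1.flip.paste_vert sq
  rw [show ((R.comap p) ^ (n + 1)).subschemeι ≫ q = (completionMap q (R.comap p) (J.comap h) hq : Hom _ _).app n ≫
      ((J.comap h) ^ (n + 1)).subschemeι from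
      (Scheme.IdealSheafData.subschemeMap_subschemeι _ _ _ (Scheme.IdealSheafData.le_map_iff_comap_le.mpr (hq n))).symm,
    show (R ^ (n + 1)).subschemeι ≫ g = (completionMap g R J hg : Hom _ _).app n ≫ (J ^ (n + 1)).subschemeι from
      (Scheme.IdealSheafData.subschemeMap_subschemeι _ _ _ (Scheme.IdealSheafData.le_map_iff_comap_le.mpr (hg n))).symm] at big
  refine IsPullback.of_bot big ?_ sq3.flip
  simp only [completionMap_app]
  rw [← cancel_mono (J ^ (n + 1)).subschemeι]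
  simp only [Category.assoc, Scheme.IdealSheafData.subschemeMap_subschemeι,
    Scheme.IdealSheafData.subschemeMap_subschemeι_assoc, sq.w]

end Groth.Agent.ThickSys
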