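import Groth.Agent.ThickSys.Sys
import Groth.Agent.NilAffine.Main
import Groth.Agent.SepSurj.Basic
import Mathlib.AlgebraicGeometry.Morphisms.Finite

/-!
# Properties descending along thickenings of the target
-/

universe u

set_option backward.isDefEq.respectTransparency false
set_option linter.style.haveILetI false

open CategoryTheory CategoryTheory.Limits AlgebraicGeometry TopologicalSpace

namespace Groth.Agent.ThickSys

variable {X Y X₀ Y₀ : Scheme.{u}} {a : X₀ ⟶ X} {b : X₀ ⟶ Y₀} {f : X ⟶ Y} {i : Y₀ ⟶ Y}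

theorem isNilpotent_ker_app (i : Y₀ ⟶ Y) [IsClosedImmersion i] [Surjective i] [IsLocallyNoetherian Y]
    (U : Y.affineOpens) : IsNilpotent (i.ker.ideal U) := by
  haveI := IsLocallyNoetherian.component_noetherian U
  have h : i.ker.ideal U ≤ nilradical Γ(Y, U.1) := fun x hx =>
    mem_nilradical.2 (NilAffine.isNilpotent_of_mem_ker i U hx)
  obtain ⟨n, hn⟩ := Ideal.exists_pow_le_of_le_radical_of_fg (J := (⊥ : Ideal Γ(Y, U.1))) h (IsNoetherian.noetherian _)
  exact ⟨n, le_bot_iff.1 hn⟩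

/-- The key surjectivity of restriction to the thin piece, with its kernel. -/
theorem ker_app_eq_map [IsClosedImmersion i] (sq : IsPullback a b f i) (U : Y.affineOpens) (V : X.affineOpens)
    (e : V.1 ≤ f ⁻¹ᵁ U.1) : RingHom.ker (a.app V.1).hom = (i.ker.ideal U).map (f.appLE U.1 V.1 e).hom := by
  haveI : IsClosedImmersion a := MorphismProperty.of_isPullback (P := @IsClosedImmersion) sq.flip inferInstance
  rw [← Scheme.Hom.ker_apply, ker_of_isPullback sq, FpqcDescent.ideal_comap_appLE _ f U V e]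

theorem appLE_comp_app (w : a ≫ f = b ≫ i) (U : Y.Opens) (V : X.Opens) (e : V ≤ f ⁻¹ᵁ U) :
    ∃ e' : a ⁻¹ᵁ V ≤ b ⁻¹ᵁ (i ⁻¹ᵁ U),
      f.appLE U V e ≫ a.app V = i.app U ≫ b.appLE (i ⁻¹ᵁ U) (a ⁻¹ᵁ V) e' := by
  have e' : a ⁻¹ᵁ V ≤ b ⁻¹ᵁ (i ⁻¹ᵁ U) := fun x hx => show i (b x) ∈ U by
    rw [← Scheme.Hom.comp_apply, ← w, Scheme.Hom.comp_apply]
    exact e hx
  refine ⟨e', ?_⟩
  rw [Scheme.Hom.app_eq_appLE (f := a), Scheme.Hom.app_eq_appLE (f := i), Scheme.Hom.appLE_comp_appLE,
    Scheme.Hom.appLE_comp_appLE]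
  exact FpqcDescent.appLE_congr w _ _ _ _

theorem locallyOfFiniteType_of_thickening [IsClosedImmersion i] [Surjective i] [IsLocallyNoetherian Y]
    (sq : IsPullback a b f i) [LocallyOfFiniteType b] : LocallyOfFiniteType f := by
  rw [HasRingHomProperty.iff_appLE (P := @LocallyOfFiniteType)]
  intro U V e
  haveI : IsClosedImmersion a := MorphismProperty.of_isPullback (P := @IsClosedImmersion) sq.flip inferInstance
  obtain ⟨e', he⟩ := appLE_comp_app sq.w U.1 V.1 e
  letI := (f.appLE U.1 V.1 e).hom.toAlgebra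
  show Algebra.FiniteType Γ(Y, U.1) Γ(X, V.1)
  have hsurj := a.app_surjective V.1 V.2
  have hft : RingHom.FiniteType ((a.app V.1).hom.comp (algebraMap Γ(Y, U.1) Γ(X, V.1))) := by
    rw [show (a.app V.1).hom.comp (algebraMap Γ(Y, U.1) Γ(X, V.1)) =
      (f.appLE U.1 V.1 e ≫ a.app V.1).hom from rfl, he, CommRingCat.hom_comp]
    exact RingHom.FiniteType.comp (LocallyOfFiniteType.finiteType_appLE (f := b) (U.2.preimage i) (V.2.preimage a) e')
      (RingHom.FiniteType.of_surjective _ (i.app_surjective U.1 U.2))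
  letI := ((a.app V.1).hom.comp (algebraMap Γ(Y, U.1) Γ(X, V.1))).toAlgebra
  haveI : Algebra.FiniteType Γ(Y, U.1) Γ(X₀, a ⁻¹ᵁ V.1) := hft
  let p : Γ(X, V.1) →ₐ[Γ(Y, U.1)] Γ(X₀, a ⁻¹ᵁ V.1) := ⟨(a.app V.1).hom, fun _ => rfl⟩
  have hk : RingHom.ker p = (i.ker.ideal U).map (algebraMap Γ(Y, U.1) Γ(X, V.1)) := ker_app_eq_map sq U V e
  haveI : Algebra.FiniteType Γ(Y, U.1) (Γ(X, V.1) ⧸ (i.ker.ideal U).map (algebraMap Γ(Y, U.1) Γ(X, V.1))) :=
    Algebra.FiniteType.equiv hft ((Ideal.quotientEquivAlgOfEq _ hk.symm).trans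
      (Ideal.quotientKerAlgEquivOfSurjective (f := p) hsurj)).symm
  exact finiteType_of_nilpotent (isNilpotent_ker_app i U)

theorem isAffineHom_of_thickening [IsClosedImmersion i] [Surjective i] (sq : IsPullback a b f i)
    [IsAffineHom b] : IsAffineHom f := by
  haveI : IsClosedImmersion a := MorphismProperty.of_isPullback (P := @IsClosedImmersion) sq.flip inferInstance
  haveI : Surjective a := MorphismProperty.of_isPullback (P := @Surjective) sq.flip inferInstance
  haveI : IsAffineHom (a ≫ f) := by rw [sq.w]; infer_instance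
  exact NilAffine.isAffineHom_of_comp a f

theorem universallyClosed_of_thickening [IsClosedImmersion i] [Surjective i] (sq : IsPullback a b f i)
    [UniversallyClosed b] : UniversallyClosed f := by
  haveI : Surjective a := MorphismProperty.of_isPullback (P := @Surjective) sq.flip inferInstance
  haveI : UniversallyClosed (a ≫ f) := by rw [sq.w]; infer_instance
  exact UniversallyClosed.of_comp_surjective a f

theorem isSeparated_of_thickening [IsClosedImmersion i] [Surjective i] (sq : IsPullback a b f i)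
    [IsSeparated b] : IsSeparated f := by
  haveI : IsClosedImmersion a := MorphismProperty.of_isPullback (P := @IsClosedImmersion) sq.flip inferInstance
  haveI : Surjective a := MorphismProperty.of_isPullback (P := @Surjective) sq.flip inferInstance
  haveI : IsSeparated (a ≫ f) := by rw [sq.w]; infer_instance
  exact SepSurj.isSeparated_of_universallyClosed_surjective a f

theorem isProper_of_thickening [IsClosedImmersion i] [Surjective i] [IsLocallyNoetherian Y]
    (sq : IsPullback a b f i) [IsProper b] : IsProper f := by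
  haveI := locallyOfFiniteType_of_thickening sq
  haveI := universallyClosed_of_thickening sq
  haveI := isSeparated_of_thickening sq
  exact {}

theorem isFinite_of_thickening [IsClosedImmersion i] [Surjective i] [IsLocallyNoetherian Y]
    (sq : IsPullback a b f i) [IsFinite b] : IsFinite f := by
  haveI := isAffineHom_of_thickening sq
  haveI := locallyOfFiniteType_of_thickening sq
  haveI := universallyClosed_of_thickening sq
  exact (IsFinite.iff_isIntegralHom_and_locallyOfFiniteType f).2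
    ⟨IsIntegralHom.iff_universallyClosed_and_isAffineHom.2 ⟨inferInstance, inferInstance⟩, inferInstance⟩

theorem isClosedImmersion_of_thickening [IsClosedImmersion i] [Surjective i] [IsLocallyNoetherian Y]
    (sq : IsPullback a b f i) [IsClosedImmersion b] : IsClosedImmersion f := by
  haveI := isAffineHom_of_thickening sq
  haveI : IsClosedImmersion a := MorphismProperty.of_isPullback (P := @IsClosedImmersion) sq.flip inferInstance
  refine isClosedImmersion_iff_isAffineHom.2 ⟨inferInstance, fun U hU => ?_⟩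
  obtain ⟨e', he⟩ := appLE_comp_app sq.w U (f ⁻¹ᵁ U) le_rfl
  have hW : a ⁻¹ᵁ (f ⁻¹ᵁ U) = b ⁻¹ᵁ (i ⁻¹ᵁ U) := by
    rw [← Scheme.Hom.comp_preimage, sq.w, Scheme.Hom.comp_preimage]
  have key : ∀ (W : X₀.Opens) (e : W ≤ b ⁻¹ᵁ (i ⁻¹ᵁ U)), W = b ⁻¹ᵁ (i ⁻¹ᵁ U) →
      Function.Surjective (b.appLE (i ⁻¹ᵁ U) W e) := by
    rintro W e rfl
    rw [← Scheme.Hom.app_eq_appLE]
    exact b.app_surjective _ (hU.preimage i)
  have hb := key _ e' hW
  letI := (f.app U).hom.toAlgebra
  have htop : (⊥ : Subalgebra Γ(Y, U) Γ(X, f ⁻¹ᵁ U)) = ⊤ :=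
    subalgebra_eq_top (isNilpotent_ker_app i ⟨U, hU⟩) ⊥ fun x => by
      obtain ⟨y, hy⟩ := hb (a.app (f ⁻¹ᵁ U) x)
      obtain ⟨z, hz⟩ := i.app_surjective U hU y
      refine ⟨f.app U z, Algebra.mem_bot.2 ⟨z, rfl⟩, ?_⟩
      rw [show algebraMap Γ(Y, U) Γ(X, f ⁻¹ᵁ U) = (f.appLE U (f ⁻¹ᵁ U) le_rfl).hom from
        congrArg CommRingCat.Hom.hom (Scheme.Hom.app_eq_appLE f),
        ← ker_app_eq_map sq ⟨U, hU⟩ ⟨_, hU.preimage f⟩ le_rfl, RingHom.mem_ker, map_sub, sub_eq_zero, ← hy, ← hz,
        Scheme.Hom.app_eq_appLE (f := f)]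
      exact (CategoryTheory.ConcreteCategory.congr_hom he z).symm
  intro x
  obtain ⟨z, hz⟩ := Algebra.mem_bot.1 (htop ▸ (Algebra.mem_top : x ∈ ⊤))
  exact ⟨z, hz⟩

end Groth.Agent.ThickSys
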