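/- Properties of a finite morphism near a closed subscheme, read off from the thickenings. -/
import Mathlib
import Groth.Agent.ThickSys.Desc

set_option autoImplicit false
universe u
open CategoryTheory Limits AlgebraicGeometry TopologicalSpace

namespace Groth.Agent.ThickSys

section Algebra
variable {A B : Type u} [CommRing A] [CommRing B]

theorem exists_notMem_mul_mem_range (φ : A →+* B) (hf : φ.Finite) (K P : Ideal A) [P.IsPrime] (hKP : K ≤ P)
    (h : ∀ b : B, ∃ a : A, b - φ a ∈ K.map φ) : ∃ s ∉ P, ∀ b : B, ∃ a : A, φ a = φ s * b := by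
  algebraize [φ]
  let N : Submodule A B := LinearMap.range (Algebra.linearMap A B)
  have hle : (⊤ : Submodule A (B ⧸ N)) ≤ K • ⊤ := by
    intro x _
    induction x using Submodule.Quotient.induction_on with
    | _ b => ?_
    obtain ⟨a, ha⟩ := h b
    have hb : b - φ a ∈ K • (⊤ : Submodule A B) := by
      rw [Ideal.smul_top_eq_map]
      exact ha
    have h1 : N.mkQ (b - φ a) ∈ (K • (⊤ : Submodule A B)).map N.mkQ := ⟨_, hb, rfl⟩
    rw [Submodule.map_smul'', Submodule.map_top, Submodule.range_mkQ, map_sub] at h1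
    have h0 : N.mkQ (φ a) = 0 := (Submodule.Quotient.mk_eq_zero N).2 ⟨a, rfl⟩
    rw [h0, sub_zero] at h1
    exact h1
  obtain ⟨r, hr, hr0⟩ := Submodule.exists_sub_one_mem_and_smul_eq_zero_of_fg_of_le_smul K
    (⊤ : Submodule A (B ⧸ N)) Module.Finite.fg_top hle
  refine ⟨r, fun hrP => (inferInstance : P.IsPrime).ne_top ((Ideal.eq_top_iff_one P).2 ?_), fun b => ?_⟩
  · have := P.sub_mem hrP (hKP hr); simpa using this
  · have h2 : N.mkQ (r • b) = 0 := by rw [map_smul]; exact hr0 _ trivial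
    obtain ⟨a, ha⟩ := (Submodule.Quotient.mk_eq_zero N).1 h2
    exact ⟨a, by rw [Algebra.smul_def] at ha; exact ha⟩

theorem exists_notMem_mul_eq_zero [IsNoetherianRing A] (I K P : Ideal A) [P.IsPrime] (hKP : K ≤ P)
    (hI : ∀ n : ℕ, I ≤ K ^ (n + 1)) : ∃ s ∉ P, ∀ a ∈ I, s * a = 0 := by
  have hle : I ≤ K • (⨅ n : ℕ, K ^ n • (⊤ : Submodule A A)) := by
    intro x hx
    have hx' : x ∈ ⨅ n : ℕ, K ^ n • (⊤ : Submodule A A) := by
      simp only [Submodule.mem_iInf, smul_eq_mul, Ideal.mul_top]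
      exact fun n => Ideal.pow_le_pow_right (Nat.le_succ n) (hI n hx)
    obtain ⟨r, hr⟩ := (K.mem_iInf_smul_pow_eq_bot_iff x).mp hx'
    rw [← hr]
    exact Submodule.smul_mem_smul r.2 hx'
  let N : Submodule A A := ⨅ n : ℕ, K ^ n • (⊤ : Submodule A A)
  have hN : N ≤ K • N := fun x hx => by
    obtain ⟨r, hr⟩ := (K.mem_iInf_smul_pow_eq_bot_iff x).mp hx
    rw [← hr]
    exact Submodule.smul_mem_smul r.2 hx
  obtain ⟨r, hr, hr0⟩ := Submodule.exists_sub_one_mem_and_smul_eq_zero_of_fg_of_le_smul K N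
    (IsNoetherian.noetherian N) hN
  refine ⟨r, fun hrP => (inferInstance : P.IsPrime).ne_top ((Ideal.eq_top_iff_one P).2 ?_), fun a ha => ?_⟩
  · have := P.sub_mem hrP (hKP hr); simpa using this
  · have := hr0 a (Submodule.smul_le_right (hle ha))
    simpa using this

end Algebra

variable {X Y C P : Scheme.{u}} {f : X ⟶ Y} {i : C ⟶ Y} {a : P ⟶ X} {b : P ⟶ C}

/-- If a property local at the target holds over `W`, it holds for every pullback along a map landing in `W`. -/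
theorem of_isPullback_of_range {Q : MorphismProperty Scheme.{u}} [Q.IsStableUnderBaseChange]
    (sq : IsPullback a b f i) (W : Y.Opens) (hr : Set.range i ⊆ (W : Set Y)) (hQ : Q (f ∣_ W)) : Q b := by
  have hr' : Set.range i ⊆ Set.range W.ι := by rw [Scheme.Opens.range_ι]; exact hr
  have ha : Set.range a ⊆ Set.range (f ⁻¹ᵁ W).ι := by
    rw [Scheme.Opens.range_ι]
    rintro _ ⟨x, rfl⟩
    show f (a x) ∈ W
    rw [← Scheme.Hom.comp_apply, sq.w, Scheme.Hom.comp_apply]
    exact hr ⟨_, rfl⟩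
  let i' := IsOpenImmersion.lift W.ι i hr'
  let a' := IsOpenImmersion.lift (f ⁻¹ᵁ W).ι a ha
  have hi : i' ≫ W.ι = i := IsOpenImmersion.lift_fac _ _ _
  have ha' : a' ≫ (f ⁻¹ᵁ W).ι = a := IsOpenImmersion.lift_fac _ _ _
  have hw : a' ≫ f ∣_ W = b ≫ i' := by
    rw [← cancel_mono W.ι, Category.assoc, morphismRestrict_ι, ← Category.assoc, ha', Category.assoc, hi, sq.w]
  exact MorphismProperty.of_isPullback (P := Q)
    (IsPullback.of_right (by rw [ha', hi]; exact sq) hw (isPullback_morphismRestrict f W).flip) hQ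

theorem restrict_mono {Q : MorphismProperty Scheme.{u}} [Q.IsStableUnderBaseChange] {V W : Y.Opens}
    (h : W ≤ V) (hQ : Q (f ∣_ V)) : Q (f ∣_ W) :=
  of_isPullback_of_range (isPullback_morphismRestrict f W).flip V
    (by rw [Scheme.Opens.range_ι]; exact h) hQ

/-- If a property local at the target holds near every point of `W`, it holds over `W`. -/
theorem restrict_of_forall_nhd {Q : MorphismProperty Scheme.{u}} [Q.IsStableUnderBaseChange]
    [IsZariskiLocalAtTarget Q] (W : Y.Opens) (h : ∀ y ∈ W, ∃ V : Y.Opens, y ∈ V ∧ Q (f ∣_ V)) : Q (f ∣_ W) := by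
  refine IsZariskiLocalAtTarget.of_forall_exists_morphismRestrict fun w => ?_
  obtain ⟨V, hwV, hV⟩ := h w.1 w.2
  refine ⟨W.ι ⁻¹ᵁ V, hwV, (Q.arrow_mk_iso_iff (morphismRestrictRestrict f W _)).2 (restrict_mono ?_ hV)⟩
  rintro y ⟨z, hz, rfl⟩
  exact hz

theorem subsingleton_fibre (sq : IsPullback a b f i) [IsClosedImmersion b] {y : Y}
    (hy : y ∈ Set.range i) [Mono i] [IsPreimmersion i] : (f ⁻¹' {y}).Subsingleton := by
  intro x₁ h₁ x₂ h₂
  obtain ⟨c, rfl⟩ := hy
  obtain ⟨z₁, hz₁, hz₁'⟩ := Scheme.exists_preimage_of_isPullback sq x₁ c h₁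
  obtain ⟨z₂, hz₂, hz₂'⟩ := Scheme.exists_preimage_of_isPullback sq x₂ c h₂
  rw [← hz₁, ← hz₂, b.isClosedEmbedding.injective (hz₁'.trans hz₂'.symm)]

theorem morphismRestrict_appTop_bijective (W : Y.Opens) (h : Function.Bijective (f.app W).hom) :
    Function.Bijective (f ∣_ W).appTop.hom := by
  have : ∀ W' : Y.Opens, W' = W → Function.Bijective (f.app W').hom := by rintro _ rfl; exact h
  rw [Scheme.Hom.appTop, morphismRestrict_app]
  exact (ConcreteCategory.bijective_of_isIso (X.presheaf.map _)).comp (this _ (Scheme.Opens.ι_image_top W))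

theorem morphismRestrict_appTop_surjective (W : Y.Opens) (h : Function.Surjective (f.app W).hom) :
    Function.Surjective (f ∣_ W).appTop.hom := by
  have : ∀ W' : Y.Opens, W' = W → Function.Surjective (f.app W').hom := by rintro _ rfl; exact h
  rw [Scheme.Hom.appTop, morphismRestrict_app]
  exact (ConcreteCategory.bijective_of_isIso (X.presheaf.map _)).surjective.comp (this _ (Scheme.Opens.ι_image_top W))

theorem isClosedImmersion_basicOpen {V : Y.Opens} (hV : IsAffineOpen V) (hW : IsAffineOpen (f ⁻¹ᵁ V)) (s : Γ(Y, V))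
    (hs' : ∀ w : Γ(X, f ⁻¹ᵁ V), ∃ r : Γ(Y, V), (f.app V).hom r = (f.app V).hom s * w) :
    IsClosedImmersion (f ∣_ Y.basicOpen s) := by
  let φ := (f.app V).hom
  have hpre : IsAffineOpen (f ⁻¹ᵁ Y.basicOpen s) := by
    rw [Scheme.preimage_basicOpen]; exact hW.basicOpen _
  haveI : IsAffine (Y.basicOpen s : Scheme) := hV.basicOpen s
  haveI : IsAffine (f ⁻¹ᵁ Y.basicOpen s : Scheme) := hpre
  refine IsClosedImmersion.of_surjective_of_isAffine _ ?_
  have hsurj : Function.Surjective (f.app (Y.basicOpen s)).hom := by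
    intro z
    letI := (X.presheaf.map (homOfLE (f.preimage_mono (Y.basicOpen_le s))).op).hom.toAlgebra
    haveI : IsLocalization.Away (φ s) Γ(X, f ⁻¹ᵁ Y.basicOpen s) :=
      hW.isLocalization_of_eq_basicOpen (φ s) _ (Scheme.preimage_basicOpen f s)
    obtain ⟨n, w, hw⟩ := IsLocalization.Away.surj (φ s) z
    obtain ⟨r, hr⟩ := hs' w
    letI := (Y.presheaf.map (homOfLE (Y.basicOpen_le s)).op).hom.toAlgebra
    haveI : IsLocalization.Away s Γ(Y, Y.basicOpen s) :=
      hV.isLocalization_of_eq_basicOpen s _ rfl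
    have hu : IsUnit (algebraMap Γ(Y, V) Γ(Y, Y.basicOpen s) (s ^ (n + 1))) := by
      rw [map_pow]
      exact (IsLocalization.Away.algebraMap_isUnit s).pow _
    refine ⟨algebraMap _ _ r * ↑hu.unit⁻¹, ?_⟩
    have hnat : ∀ t : Γ(Y, V), (f.app (Y.basicOpen s)).hom (algebraMap _ _ t) =
        algebraMap Γ(X, f ⁻¹ᵁ V) Γ(X, f ⁻¹ᵁ Y.basicOpen s) (φ t) := fun t =>
      ConcreteCategory.congr_hom (f.naturality (homOfLE (Y.basicOpen_le s)).op) t
    have hu' : IsUnit ((f.app (Y.basicOpen s)).hom (algebraMap Γ(Y, V) Γ(Y, Y.basicOpen s) (s ^ (n + 1)))) :=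
      hu.map _
    rw [← hu'.mul_left_inj, map_mul, mul_assoc, ← map_mul (f.app (Y.basicOpen s)).hom (↑hu.unit⁻¹),
      IsUnit.val_inv_mul, map_one, mul_one, hnat, hnat, hr, map_mul, ← hw, map_pow, map_pow, pow_succ]
    ring
  exact morphismRestrict_appTop_surjective _ hsurj

/-- A finite morphism which is a closed immersion over a closed subscheme is a closed immersion near it. -/
theorem exists_nhd_isClosedImmersion_of_isFinite [IsFinite f] [IsClosedImmersion i]
    (sq : IsPullback a b f i) [IsClosedImmersion b] {y : Y} (hy : y ∈ Set.range i) :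
    ∃ V : Y.Opens, y ∈ V ∧ IsClosedImmersion (f ∣_ V) := by
  obtain ⟨V, hV, hyV, -⟩ := exists_isAffineOpen_mem_and_subset (U := (⊤ : Y.Opens)) (x := y) trivial
  have hW : IsAffineOpen (f ⁻¹ᵁ V) := hV.preimage f
  haveI : IsClosedImmersion a := MorphismProperty.of_isPullback (P := @IsClosedImmersion) sq.flip inferInstance
  let φ := (f.app V).hom
  have hfin : φ.Finite := IsFinite.finite_app f V hV
  let P' : Ideal Γ(Y, V) := (hV.primeIdealOf ⟨y, hyV⟩).asIdeal
  have hKP : i.ker.ideal ⟨V, hV⟩ ≤ P' := by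
    intro x hx
    have h1 : y ∉ Y.basicOpen x := by
      obtain ⟨c, rfl⟩ := hy
      intro hc
      have h2 : c ∈ C.basicOpen ((i.app V).hom x) := by rw [← Scheme.preimage_basicOpen]; exact hc
      rw [Scheme.Hom.ker_apply] at hx
      rw [RingHom.mem_ker.1 hx, Scheme.basicOpen_zero] at h2
      exact h2
    by_contra hxP
    exact h1 (by
      have : hV.primeIdealOf ⟨y, hyV⟩ ∈ PrimeSpectrum.basicOpen x := hxP
      rw [← hV.fromSpec_preimage_basicOpen x] at this
      have h3 : hV.fromSpec (hV.primeIdealOf ⟨y, hyV⟩) ∈ Y.basicOpen x := this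
      rwa [hV.fromSpec_primeIdealOf] at h3)
  obtain ⟨e', he'⟩ := appLE_comp_app sq.w V (f ⁻¹ᵁ V) le_rfl
  have hsur : ∀ x : Γ(X, f ⁻¹ᵁ V), ∃ r : Γ(Y, V), x - φ r ∈ (i.ker.ideal ⟨V, hV⟩).map φ := by
    intro x
    have hb : Function.Surjective (b.appLE (i ⁻¹ᵁ V) (a ⁻¹ᵁ (f ⁻¹ᵁ V)) e').hom := by
      have he : a ⁻¹ᵁ (f ⁻¹ᵁ V) = b ⁻¹ᵁ (i ⁻¹ᵁ V) := by
        rw [← Scheme.Hom.comp_preimage, ← Scheme.Hom.comp_preimage, sq.w]
      intro z
      obtain ⟨z', hz'⟩ := b.app_surjective (i ⁻¹ᵁ V) (hV.preimage i)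
        ((P.presheaf.map (eqToHom he.symm).op).hom z)
      refine ⟨z', ?_⟩
      rw [Scheme.Hom.appLE, CommRingCat.comp_apply, hz', ← CommRingCat.comp_apply, ← Functor.map_comp]
      exact ConcreteCategory.congr_hom (P.presheaf.map_id _) z
    obtain ⟨z, hz⟩ := hb ((a.app (f ⁻¹ᵁ V)).hom x)
    obtain ⟨r, hr⟩ := i.app_surjective V hV z
    refine ⟨r, ?_⟩
    have hk := ker_app_eq_map sq ⟨V, hV⟩ ⟨f ⁻¹ᵁ V, hW⟩ le_rfl
    rw [← Scheme.Hom.app_eq_appLE] at hk he'
    rw [← hk, RingHom.mem_ker, map_sub, sub_eq_zero, ← hz, ← hr]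
    exact (ConcreteCategory.congr_hom he' r).symm
  obtain ⟨s, hs, hs'⟩ := exists_notMem_mul_mem_range φ hfin _ P' hKP hsur
  refine ⟨Y.basicOpen s, ?_, ?_⟩
  · have : hV.primeIdealOf ⟨y, hyV⟩ ∈ PrimeSpectrum.basicOpen s := hs
    rw [← hV.fromSpec_preimage_basicOpen s] at this
    have h3 : hV.fromSpec (hV.primeIdealOf ⟨y, hyV⟩) ∈ Y.basicOpen s := this
    rwa [hV.fromSpec_primeIdealOf] at h3
  · exact isClosedImmersion_basicOpen hV hW s hs'

end Groth.Agent.ThickSys
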