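/- Isomorphisms near a closed subscheme, read off from all thickenings. -/
import Mathlib
import Groth.Agent.ThickSys.Near
import Groth.Agent.ThickSys.Sys
import Groth.Prelude.Def_FSch3

set_option autoImplicit false
universe u
open CategoryTheory Limits AlgebraicGeometry TopologicalSpace

namespace Groth.Agent.ThickSys

variable {X Y Z : Scheme.{u}} {f : X ⟶ Y}

theorem mem_basicOpen_iff {V : Y.Opens} (hV : IsAffineOpen V) {y : Y} (hyV : y ∈ V) (s : Γ(Y, V)) :
    y ∈ Y.basicOpen s ↔ s ∉ (hV.primeIdealOf ⟨y, hyV⟩).asIdeal := by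
  have h : hV.fromSpec (hV.primeIdealOf ⟨y, hyV⟩) ∈ Y.basicOpen s ↔
      hV.primeIdealOf ⟨y, hyV⟩ ∈ PrimeSpectrum.basicOpen s := by
    rw [← hV.fromSpec_preimage_basicOpen s]; rfl
  rwa [hV.fromSpec_primeIdealOf] at h

theorem ideal_le_prime (K : Y.IdealSheafData) {V : Y.Opens} (hV : IsAffineOpen V) {y : Y} (hyV : y ∈ V)
    (hy : y ∈ K.support) : K.ideal ⟨V, hV⟩ ≤ (hV.primeIdealOf ⟨y, hyV⟩).asIdeal := by
  intro x hx
  by_contra h
  rw [Scheme.IdealSheafData.mem_support_iff_of_mem (U := ⟨V, hV⟩) hyV] at hy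
  rw [Scheme.zeroLocus_def] at hy
  exact Set.mem_iInter₂.1 hy x hx ((mem_basicOpen_iff hV hyV x).2 h)

theorem exists_nhd_isIso (K : Y.IdealSheafData) [IsLocallyNoetherian Y] (V₀ : Y.Opens)
    [IsClosedImmersion (f ∣_ V₀)]
    (P : ℕ → Scheme.{u}) (a : ∀ n, P n ⟶ X) (b : ∀ n, P n ⟶ (K ^ (n + 1)).subscheme) [∀ n, IsIso (b n)]
    (sq : ∀ n, IsPullback (a n) (b n) f (K ^ (n + 1)).subschemeι)
    {y : Y} (hy : y ∈ K.support) (hy₀ : y ∈ V₀) : ∃ V : Y.Opens, y ∈ V ∧ IsIso (f ∣_ V) := by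
  obtain ⟨V, hV, hyV, hVV⟩ := exists_isAffineOpen_mem_and_subset (U := V₀) hy₀
  haveI : IsClosedImmersion (f ∣_ V) := restrict_mono (Q := @IsClosedImmersion) hVV inferInstance
  haveI : IsAffine (V : Scheme) := hV
  have hW : IsAffineOpen (f ⁻¹ᵁ V) := isAffine_of_isAffineHom (f ∣_ V)
  haveI := IsLocallyNoetherian.component_noetherian ⟨V, hV⟩
  let I : Ideal Γ(Y, V) := RingHom.ker (f.app V).hom
  have hI : ∀ n, I ≤ K.ideal ⟨V, hV⟩ ^ (n + 1) := by
    intro n r hr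
    obtain ⟨e', he'⟩ := appLE_comp_app (sq n).w V (f ⁻¹ᵁ V) le_rfl
    rw [← Scheme.Hom.app_eq_appLE] at he'
    have h1 := ConcreteCategory.congr_hom he' r
    simp only [CommRingCat.comp_apply] at h1
    rw [RingHom.mem_ker.1 hr, map_zero] at h1
    have he : a n ⁻¹ᵁ (f ⁻¹ᵁ V) = b n ⁻¹ᵁ ((K ^ (n + 1)).subschemeι ⁻¹ᵁ V) := by
      rw [← Scheme.Hom.comp_preimage, ← Scheme.Hom.comp_preimage, (sq n).w]
    haveI : IsIso (homOfLE e') := ⟨homOfLE he.ge, Subsingleton.elim _ _, Subsingleton.elim _ _⟩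
    rw [Scheme.Hom.appLE, CommRingCat.comp_apply] at h1
    have h2 := ((ConcreteCategory.bijective_of_isIso ((P n).presheaf.map (homOfLE e').op)).injective.comp
      (ConcreteCategory.bijective_of_isIso ((b n).app ((K ^ (n + 1)).subschemeι ⁻¹ᵁ V))).injective)
    have h3 : ((K ^ (n + 1)).subschemeι.app V).hom r = 0 := h2 (by
      simp only [Function.comp_apply]
      rw [map_zero, map_zero]
      exact h1.symm)
    have h4 : r ∈ RingHom.ker ((K ^ (n + 1)).subschemeι.app V).hom := h3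
    rw [← Scheme.Hom.ker_apply _ ⟨V, hV⟩, Scheme.IdealSheafData.ker_subschemeι,
      Scheme.IdealSheafData.ideal_pow] at h4
    exact h4
  obtain ⟨s, hs, hs'⟩ := exists_notMem_mul_eq_zero I _ _ (ideal_le_prime K hV hyV hy) hI
  refine ⟨Y.basicOpen s, (mem_basicOpen_iff hV hyV s).2 hs, ?_⟩
  haveI : IsClosedImmersion (f ∣_ Y.basicOpen s) :=
    restrict_mono (Q := @IsClosedImmersion) ((Y.basicOpen_le s).trans hVV) inferInstance
  haveI : IsAffine (Y.basicOpen s : Scheme) := hV.basicOpen s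
  have hinj : Function.Injective (f.app (Y.basicOpen s)).hom := by
    rw [injective_iff_map_eq_zero]
    intro z hz
    letI := (Y.presheaf.map (homOfLE (Y.basicOpen_le s)).op).hom.toAlgebra
    haveI : IsLocalization.Away s Γ(Y, Y.basicOpen s) := hV.isLocalization_of_eq_basicOpen s _ rfl
    letI := (X.presheaf.map (homOfLE (f.preimage_mono (Y.basicOpen_le s))).op).hom.toAlgebra
    haveI : IsLocalization.Away ((f.app V).hom s) Γ(X, f ⁻¹ᵁ Y.basicOpen s) :=
      hW.isLocalization_of_eq_basicOpen _ _ (Scheme.preimage_basicOpen f s)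
    obtain ⟨n, w, hw⟩ := IsLocalization.Away.surj s z
    have hnat : (f.app (Y.basicOpen s)).hom (algebraMap _ _ w) =
        algebraMap Γ(X, f ⁻¹ᵁ V) Γ(X, f ⁻¹ᵁ Y.basicOpen s) ((f.app V).hom w) :=
      ConcreteCategory.congr_hom (f.naturality (homOfLE (Y.basicOpen_le s)).op) w
    rw [← hw, map_mul, hz, zero_mul] at hnat
    obtain ⟨⟨_, m, rfl⟩, hm⟩ := (IsLocalization.map_eq_zero_iff (Submonoid.powers ((f.app V).hom s))
      Γ(X, f ⁻¹ᵁ Y.basicOpen s) _).1 hnat.symm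
    have hmem : s ^ m * w ∈ I := RingHom.mem_ker.2 (by rw [map_mul, map_pow]; exact hm)
    have h5 := congrArg (algebraMap Γ(Y, V) Γ(Y, Y.basicOpen s)) (hs' _ hmem)
    rw [map_zero, map_mul, map_mul, map_pow, ← hw] at h5
    have hu : IsUnit (algebraMap Γ(Y, V) Γ(Y, Y.basicOpen s) s) := IsLocalization.Away.algebraMap_isUnit s
    rw [hu.mul_right_eq_zero, (hu.pow m).mul_right_eq_zero] at h5
    exact (hu.pow n).mul_left_eq_zero.1 h5
  refine IsClosedImmersion.isIso_iff_ker_eq_bot.2 (Scheme.IdealSheafData.ext_of_isAffine ?_)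
  rw [Scheme.Hom.ker_apply, Scheme.IdealSheafData.ideal_bot]
  refine (RingHom.injective_iff_ker_eq_bot _).1 ?_
  have : ∀ W' : Y.Opens, W' = Y.basicOpen s → Function.Injective (f.app W').hom := by
    rintro _ rfl; exact hinj
  change Function.Injective (f ∣_ Y.basicOpen s).appTop.hom
  rw [Scheme.Hom.appTop, morphismRestrict_app]
  exact (ConcreteCategory.bijective_of_isIso (X.presheaf.map _)).injective.comp
    (this _ (Scheme.Opens.ι_image_top _))

section Global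
open FSch

variable (g : X ⟶ Z) (h : Y ⟶ Z) (𝓙 : Z.IdealSheafData)

theorem isPullback_completionMap_app (w : f ≫ h = g) (hc : PowCompat f (𝓙.comap g) (𝓙.comap h)) (n : ℕ) :
    IsPullback ((𝓙.comap g) ^ (n + 1)).subschemeι
      (Scheme.IdealSheafData.subschemeMap ((𝓙.comap g) ^ (n + 1)) ((𝓙.comap h) ^ (n + 1)) f
        (Scheme.IdealSheafData.le_map_iff_comap_le.mpr (hc n)))
      f ((𝓙.comap h) ^ (n + 1)).subschemeι :=
  isPullback_subschemeMap f _ _ _ (by subst w; rw [comap_pow, ← Scheme.IdealSheafData.comap_comp])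

theorem range_level_subset (U : Z.Opens) (hU : (𝓙.support : Set Z) ⊆ U) (n : ℕ) :
    Set.range ((𝓙.comap h) ^ (n + 1)).subschemeι ⊆ ((h ⁻¹ᵁ U : Y.Opens) : Set Y) := by
  rw [Scheme.IdealSheafData.range_subschemeι, Scheme.IdealSheafData.support_pow _ _ (Nat.succ_ne_zero n),
    Scheme.IdealSheafData.support_comap]
  intro y hy
  exact hU hy

theorem exists_open_of_forall_nhd {Q : MorphismProperty Scheme.{u}} [Q.IsStableUnderBaseChange]
    [IsZariskiLocalAtTarget Q] [IsProper h]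
    (H : ∀ y ∈ (𝓙.comap h).support, ∃ V : Y.Opens, y ∈ V ∧ Q (f ∣_ V)) :
    ∃ U : Z.Opens, (𝓙.support : Set Z) ⊆ U ∧ Q (f ∣_ h ⁻¹ᵁ U) := by
  let Ω : Y.Opens := sSup {V | Q (f ∣_ V)}
  have hΩ : ∀ y ∈ Ω, ∃ V : Y.Opens, y ∈ V ∧ Q (f ∣_ V) := fun y hy => by
    obtain ⟨V, hV, hyV⟩ := Opens.mem_sSup.1 hy
    exact ⟨V, hyV, hV⟩
  refine ⟨⟨(h '' (Ω : Set Y)ᶜ)ᶜ, (h.isClosedMap _ Ω.2.isClosed_compl).isOpen_compl⟩, ?_,
    restrict_of_forall_nhd _ fun y hy => hΩ y ?_⟩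
  · rintro z hz ⟨y, hy, rfl⟩
    obtain ⟨V, hyV, hV⟩ := H y (by rw [← SetLike.mem_coe, Scheme.IdealSheafData.support_comap]; exact hz)
    exact hy (Opens.mem_sSup.2 ⟨V, hV, hyV⟩)
  · by_contra hy'
    exact hy ⟨y, hy', rfl⟩

theorem exists_nhd_isClosedImmersion [IsProper g] [IsSeparated h] (w : f ≫ h = g)
    (hc : PowCompat f (𝓙.comap g) (𝓙.comap h))
    [IsClosedImmersion (Scheme.IdealSheafData.subschemeMap ((𝓙.comap g) ^ (0 + 1)) ((𝓙.comap h) ^ (0 + 1)) f
      (Scheme.IdealSheafData.le_map_iff_comap_le.mpr (hc 0)))]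
    {y : Y} (hy : y ∈ (𝓙.comap h).support) : ∃ V : Y.Opens, y ∈ V ∧ IsClosedImmersion (f ∣_ V) := by
  subst w
  haveI : IsProper f := IsProper.of_comp f h
  have sq := isPullback_completionMap_app (f ≫ h) h 𝓙 rfl hc 0
  have hy' : y ∈ Set.range ((𝓙.comap h) ^ (0 + 1)).subschemeι := by
    rw [Scheme.IdealSheafData.range_subschemeι, pow_one]; exact hy
  obtain ⟨V, hyV, hV⟩ := exists_isFinite_morphismRestrict_of_finite_preimage_singleton f y
    (subsingleton_fibre sq hy').finite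
  have sqV : IsPullback (f ⁻¹ᵁ V).ι (f ∣_ V) f V.ι := (isPullback_morphismRestrict f V).flip
  -- base change of the level `0` square to `V`
  let K := ((𝓙.comap h) ^ (0 + 1))
  have sq' := IsPullback.of_hasPullback V.ι K.subschemeι
  obtain ⟨a', b', sqa, hb'⟩ : ∃ (a' : pullback (f ∣_ V) (pullback.fst V.ι K.subschemeι) ⟶ _) (b' : _ ⟶ _),
      IsPullback a' b' (f ∣_ V) (pullback.fst V.ι K.subschemeι) ∧ IsClosedImmersion b' := by
    refine ⟨_, _, IsPullback.of_hasPullback _ _, ?_⟩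
    have big := (IsPullback.of_hasPullback (f ∣_ V) (pullback.fst V.ι K.subschemeι)).paste_horiz sqV
    rw [sq'.w] at big
    exact MorphismProperty.of_isPullback (P := @IsClosedImmersion)
      ((IsPullback.of_right' big sq).flip.flip) inferInstance
  obtain ⟨W, hyW, hW⟩ := exists_nhd_isClosedImmersion_of_isFinite sqa (y := ⟨y, hyV⟩) (by
    obtain ⟨c, hc⟩ := hy'
    obtain ⟨z, hz, -⟩ := Scheme.exists_preimage_of_isPullback sq' ⟨y, hyV⟩ c hc.symm
    exact ⟨z, hz⟩)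
  refine ⟨V.ι ''ᵁ W, ⟨_, hyW, rfl⟩, ?_⟩
  exact ((MorphismProperty.arrow_mk_iso_iff (P := @IsClosedImmersion)) (morphismRestrictRestrict f V W)).1 hW

end Global

end Groth.Agent.ThickSys
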