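import Groth.Agent.ThickSys.Sys
import Groth.Agent.NilAffine.Main
import Groth.Agent.AdicLim.Basic
import Groth.Agent.AdicLim.Noetherian

/-!
# Affine recognition of adic systems of thickenings
-/

universe u

set_option backward.isDefEq.respectTransparency false
set_option linter.style.haveILetI false

open CategoryTheory CategoryTheory.Limits AlgebraicGeometry TopologicalSpace FSch

namespace Groth.Agent.ThickSys

/-- An inverse system of rings with surjective transition maps, kernels powers of the first-level kernel. -/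
structure RingSys where
  R : ℕ → Type u
  [inst : ∀ n, CommRing (R n)]
  r : ∀ n, R (n + 1) →+* R n
  surj : ∀ n, Function.Surjective (r n)

attribute [instance] RingSys.inst

namespace RingSys

variable (T : RingSys.{u})

/-- the composite to level `0` -/
def toZero : ∀ n, T.R n →+* T.R 0
  | 0 => RingHom.id _
  | n + 1 => (toZero n).comp (T.r n)

theorem toZero_surjective : ∀ n, Function.Surjective (T.toZero n)
  | 0 => Function.surjective_id
  | n + 1 => (toZero_surjective n).comp (T.surj n)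

/-- the kernel to level `0` -/
def K (n : ℕ) : Ideal (T.R n) := RingHom.ker (T.toZero n)

theorem K_succ (n : ℕ) : T.K (n + 1) = (T.K n).comap (T.r n) := rfl

theorem map_K (n : ℕ) : (T.K (n + 1)).map (T.r n) = T.K n := by
  rw [K_succ, Ideal.map_comap_of_surjective _ (T.surj n)]

/-- the inverse limit -/
def lim : Subring (∀ n, T.R n) where
  carrier := {x | ∀ n, T.r n (x (n + 1)) = x n}
  zero_mem' n := map_zero _
  one_mem' n := map_one _
  add_mem' {a b} ha hb n := by show T.r n (a (n + 1) + b (n + 1)) = _; rw [map_add, ha, hb]; rfl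
  mul_mem' {a b} ha hb n := by show T.r n (a (n + 1) * b (n + 1)) = _; rw [map_mul, ha, hb]; rfl
  neg_mem' {a} ha n := by show T.r n (-a (n + 1)) = _; rw [map_neg, ha]; rfl

/-- the projections -/
def proj (n : ℕ) : T.lim →+* T.R n := (Pi.evalRingHom _ n).comp T.lim.subtype

theorem r_comp_proj (n : ℕ) : (T.r n).comp (T.proj (n + 1)) = T.proj n :=
  RingHom.ext fun x => x.2 n

/-- Recognition of inverse limits. -/
theorem exists_adic (hker : ∀ n, RingHom.ker (T.r n) = T.K (n + 1) ^ (n + 1)) (hfg : (T.K 1).FG)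
    [IsNoetherianRing (T.R 0)] :
    ∃ J : Ideal T.lim, IsNoetherianRing T.lim ∧ IsAdicComplete J T.lim ∧
      ∀ n, Function.Surjective (T.proj n) ∧ RingHom.ker (T.proj n) = J ^ (n + 1) := by
  classical
  let A := T.lim
  letI alg : ∀ n, Algebra A (T.R n) := fun n => (T.proj n).toAlgebra
  let f : ∀ n, T.R (n + 1) →ₗ[A] T.R n := fun n =>
    { toFun := T.r n
      map_add' := map_add _
      map_smul' := fun a x => by
        show T.r n (T.proj (n + 1) a * x) = T.proj n a * T.r n x
        rw [map_mul]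
        exact congrArg (· * T.r n x) (a.2 n) }
  let π : ∀ n, A →ₗ[A] T.R n := fun n => Algebra.linearMap A (T.R n)
  have hlim : AdicLim.IsLimit f π :=
    { comm := fun n => LinearMap.ext fun x => x.2 n
      inj := fun x hx => Subtype.ext (funext hx)
      lift := fun y hy => ⟨⟨y, hy⟩, fun n => rfl⟩ }
  have hsurj : ∀ n, Function.Surjective (T.proj n) := hlim.surjective T.surj
  have hKbot : ∀ n, T.K n ^ (n + 1) = ⊥ := fun n => by
    rw [← T.map_K n, ← Ideal.map_pow, ← hker, Ideal.map_eq_bot_iff_le_ker]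
  -- the kernel to level one is inside the square
  have hK2 : ∀ m, ∀ x ∈ T.K (m + 1), ∀ y : A, T.proj (m + 1) y = x → T.proj 1 y = 0 → x ∈ T.K (m + 1) ^ 2 := by
    intro m
    induction m with
    | zero =>
      intro x _ y hy hy1
      rw [← hy, hy1]
      exact Ideal.zero_mem _
    | succ m ih =>
      intro x hx y hy hy1
      have h1 : T.r (m + 1) x ∈ T.K (m + 1) := hx
      have h2 := ih _ h1 y (by rw [← hy]; exact (y.2 (m + 1)).symm) hy1
      rw [← T.map_K (m + 1), ← Ideal.map_pow] at h2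
      obtain ⟨z, hz, hzx⟩ := (Ideal.mem_map_iff_of_surjective _ (T.surj (m + 1))).1 h2
      have h3 : x - z ∈ T.K (m + 1 + 1) ^ (m + 1 + 1) := by
        rw [← hker, RingHom.mem_ker, map_sub, hzx, sub_self]
      have := add_mem (Ideal.pow_le_pow_right (show 2 ≤ m + 1 + 1 by omega) h3) hz
      simpa using this
  obtain ⟨G, hG⟩ := hfg
  choose g hg using hsurj 1
  let J : Ideal A := Ideal.span (g '' (G : Set (T.R 1)))
  have hJfg : J.FG := ⟨G.image g, by rw [Finset.coe_image]⟩
  have hJ : ∀ n, J.map (T.proj n) = T.K n := by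
    intro n
    have hle : ∀ n, J.map (T.proj n) ≤ T.K n := by
      intro n
      induction n with
      | zero =>
        rw [Ideal.map_le_iff_le_comap, Ideal.span_le]
        rintro _ ⟨x, hx, rfl⟩
        show T.proj 0 (g x) = 0
        rw [show T.proj 0 (g x) = T.r 0 (T.proj 1 (g x)) from ((g x).2 0).symm, hg]
        exact hG.le (Ideal.subset_span hx)
      | succ n ih =>
        rw [K_succ, ← Ideal.map_le_iff_le_comap, Ideal.map_map, r_comp_proj]
        exact ih
    cases n with
    | zero =>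
      refine le_antisymm (hle 0) fun x hx => ?_
      rw [show x = 0 from hx]
      exact Ideal.zero_mem _
    | succ m =>
      refine (eq_of_le_sup_sq ⟨m + 2, hKbot (m + 1)⟩ (hle _) fun x hx => ?_).symm
      obtain ⟨y, hy⟩ := hsurj (m + 1) x
      have hy1 : T.proj 1 y ∈ T.K 1 := by
        have : ∀ k, T.toZero k (T.proj k y) = T.proj 0 y := by
          intro k
          induction k with
          | zero => rfl
          | succ k ih =>
            show T.toZero k (T.r k (T.proj (k + 1) y)) = _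
            rw [show T.r k (T.proj (k + 1) y) = T.proj k y from y.2 k, ih]
        show T.toZero 1 (T.proj 1 y) = 0
        rw [this 1, ← this (m + 1), hy]
        exact hx
      rw [← hG] at hy1
      have h2 : T.proj 1 y ∈ J.map (T.proj 1) := by
        refine (Ideal.span_le.2 fun z hz => ?_) hy1
        rw [← hg z]
        exact Ideal.mem_map_of_mem _ (Ideal.subset_span ⟨z, hz, rfl⟩)
      obtain ⟨w, hw, hwy⟩ := (Ideal.mem_map_iff_of_surjective _ (hsurj 1)).1 h2
      refine Submodule.mem_sup.2 ⟨T.proj (m + 1) w, Ideal.mem_map_of_mem _ hw, x - T.proj (m + 1) w, ?_, by ring⟩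
      refine hK2 m _ (sub_mem hx (hle _ (Ideal.mem_map_of_mem _ hw))) (y - w) (by rw [map_sub, hy]) ?_
      rw [map_sub, hwy, sub_self]
  have hker' : ∀ n, LinearMap.ker (f n) = J ^ (n + 1) • (⊤ : Submodule A (T.R (n + 1))) := fun n => by
    rw [Ideal.smul_top_eq_map, Ideal.map_pow,
      show J.map (algebraMap A (T.R (n + 1))) = T.K (n + 1) from hJ (n + 1), ← hker n]
    ext x
    rfl
  have hk : ∀ n, LinearMap.ker (π n) = J ^ (n + 1) • (⊤ : Submodule A A) := fun n =>
    hlim.ker_eq_of_fg J T.surj hker' hJfg n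
  haveI : IsAdicComplete J A := hlim.isAdicComplete_of_ker_eq J T.surj hker' hk
  have hk' : ∀ n, RingHom.ker (T.proj n) = J ^ (n + 1) := fun n => by
    have := hk n
    rw [smul_eq_mul, Ideal.mul_top] at this
    exact this
  haveI : IsNoetherianRing (A ⧸ J) :=
    isNoetherianRing_of_ringEquiv (T.R 0) ((Ideal.quotEquivOfEq (by rw [hk' 0, zero_add, pow_one])).trans
      (RingHom.quotientKerEquivOfSurjective (hsurj 0))).symm
  exact ⟨J, AdicLim.isNoetherianRing_of_isAdicComplete hJfg, inferInstance, fun n => ⟨hsurj n, hk' n⟩⟩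

end RingSys

theorem isAffine_level {𝔛 : Sys.{u}} (hF : 𝔛.IsFormal) [h : IsAffine (𝔛.X 0)] : ∀ n, IsAffine (𝔛.X n)
  | 0 => h
  | n + 1 => by
    haveI := isAffine_level hF n
    haveI := (hF n).1
    haveI : Surjective (𝔛.ι n) := ⟨(hF n).2⟩
    exact NilAffine.isAffine_of_surjective (𝔛.ι n)

/-- An affine adic system is the formal spectrum of a complete Noetherian ring. -/
theorem exists_iso_spf (𝔛 : Sys.{u}) (hF : 𝔛.IsFormal) (hA : 𝔛.IsAdic) [IsAffine (𝔛.X 0)]
    [IsLocallyNoetherian (𝔛.X 0)] (hft : IdealFT (𝔛.ι 0).ker) :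
    ∃ (A : Type u) (_ : CommRing A) (J : Ideal A),
      IsNoetherianRing A ∧ IsAdicComplete J A ∧ Nonempty (𝔛 ≅ spf A J) := by
  haveI := isAffine_level hF
  haveI := fun n => (hF n).1
  let T : RingSys.{u} :=
    { R := fun n => Γ(𝔛.X n, ⊤)
      r := fun n => (𝔛.ι n).appTop.hom
      surj := fun n => (𝔛.ι n).app_surjective ⊤ (isAffineOpen_top _) }
  have htz : ∀ n, T.toZero n = (𝔛.toX n).appTop.hom := by
    intro n
    induction n with
    | zero => exact (congrArg CommRingCat.Hom.hom Scheme.Hom.id_appTop).symm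
    | succ n ih =>
      show (T.toZero n).comp (T.r n) = (𝔛.toX n ≫ 𝔛.ι n).appTop.hom
      rw [ih, Scheme.Hom.comp_appTop, CommRingCat.hom_comp]
  have hK : ∀ n, T.K n = (𝔛.toX n).ker.ideal ⟨⊤, isAffineOpen_top _⟩ := fun n => by
    haveI := (closed_surj_toX hF n).1
    rw [Scheme.Hom.ker_apply]
    exact congrArg RingHom.ker (htz n)
  have hker : ∀ n, RingHom.ker (T.r n) = T.K (n + 1) ^ (n + 1) := fun n => by
    rw [hK, ← Pi.pow_apply, ← Scheme.IdealSheafData.ideal_pow, ← hA n, Scheme.Hom.ker_apply]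
  have hfg : (T.K 1).FG := by
    rw [hK, show 𝔛.toX 1 = 𝔛.ι 0 from Category.id_comp _]
    exact hft ⟨⊤, isAffineOpen_top _⟩
  haveI : IsNoetherianRing (T.R 0) :=
    IsLocallyNoetherian.component_noetherian (X := 𝔛.X 0) ⟨⊤, isAffineOpen_top _⟩
  obtain ⟨J, hN, hC, hp⟩ := T.exists_adic hker hfg
  refine ⟨T.lim, inferInstance, J, hN, hC, ?_⟩
  let e : ∀ n, (CommRingCat.of (T.lim ⧸ J ^ (n + 1))) ≅ Γ(𝔛.X n, ⊤) := fun n =>
    RingEquiv.toCommRingCatIso ((Ideal.quotEquivOfEq (hp n).2.symm).trans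
      (RingHom.quotientKerEquivOfSurjective (hp n).1))
  have he : ∀ n, (e (n + 1)).hom ≫ (𝔛.ι n).appTop = CommRingCat.ofHom
      (Ideal.Quotient.factor (Ideal.pow_le_pow_right (Nat.le_succ (n + 1)) : J ^ (n + 2) ≤ J ^ (n + 1))) ≫ (e n).hom :=
    fun n => CommRingCat.hom_ext (Ideal.Quotient.ringHom_ext (RingHom.ext fun x => x.2 n))
  let φ : ∀ n, 𝔛.X n ≅ (spf T.lim J).X n := fun n =>
    (𝔛.X n).isoSpec ≪≫ Scheme.Spec.mapIso (e n).op
  have hφ : ∀ n, (φ n).hom ≫ (spf T.lim J).ι n = 𝔛.ι n ≫ (φ (n + 1)).hom := fun n => by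
    show ((𝔛.X n).isoSpec.hom ≫ Spec.map (e n).hom) ≫ Spec.map _ = 𝔛.ι n ≫ (𝔛.X (n + 1)).isoSpec.hom ≫ Spec.map (e (n + 1)).hom
    rw [← Scheme.isoSpec_hom_naturality_assoc, Category.assoc, ← Spec.map_comp, ← Spec.map_comp, ← he]
  refine ⟨{ hom := ⟨fun n => (φ n).hom, hφ⟩
            inv := ⟨fun n => (φ n).inv, fun n => by rw [Iso.inv_comp_eq, ← Category.assoc, hφ n, Category.assoc, Iso.hom_inv_id, Category.comp_id]⟩
            hom_inv_id := FSch.Hom.ext (funext fun n => (φ n).hom_inv_id)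
            inv_hom_id := FSch.Hom.ext (funext fun n => (φ n).inv_hom_id) }⟩

end Groth.Agent.ThickSys
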