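/- A proper morphism over a base which is finite / a closed immersion on a fibre is so near that fibre. -/
import Mathlib
import Groth.Agent.ThickSys.NearIso
import Groth.Prelude.Def_ega3

set_option autoImplicit false
universe u
open CategoryTheory Limits AlgebraicGeometry TopologicalSpace TensorProduct IsLocalRing

namespace Groth.Agent.ThickSys

theorem exists_notMem_of_residueField {A B : Type u} [CommRing A] [CommRing B] [Algebra A B] [Module.Finite A B]
    (P : Ideal A) [P.IsPrime]
    (h : Function.Surjective (algebraMap P.ResidueField (P.ResidueField ⊗[A] B))) :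
    ∃ s ∉ P, ∀ b : B, ∃ a : A, algebraMap A B a = algebraMap A B s * b := by
  let N : Submodule A B := LinearMap.range (Algebra.linearMap A B)
  have hsub : Subsingleton (P.ResidueField ⊗[A] (B ⧸ N)) := by
    have h0 : ∀ z : P.ResidueField ⊗[A] (B ⧸ N), z = 0 := by
      intro z
      obtain ⟨w, rfl⟩ := LinearMap.lTensor_surjective P.ResidueField N.mkQ_surjective z
      obtain ⟨c, rfl⟩ := h w
      rw [Algebra.TensorProduct.algebraMap_apply, LinearMap.lTensor_tmul,
        show N.mkQ 1 = 0 from (Submodule.Quotient.mk_eq_zero N).2 ⟨1, (Algebra.linearMap_apply A B 1).trans (map_one _)⟩, tmul_zero]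
    exact ⟨fun a b => by rw [h0 a, h0 b]⟩
  have hP : (⟨P, inferInstance⟩ : PrimeSpectrum A) ∉ Module.support A (B ⧸ N) := fun hm => by
    have key := (Module.mem_support_iff_nontrivial_residueField_tensorProduct (R := A) (M := B ⧸ N)
      ⟨P, inferInstance⟩).1 hm
    exact not_nontrivial_iff_subsingleton.2 hsub key
  rw [Module.support_eq_zeroLocus, PrimeSpectrum.mem_zeroLocus, Set.not_subset] at hP
  obtain ⟨s, hs, hsP⟩ := hP
  refine ⟨s, hsP, fun b => ?_⟩
  have h2 : N.mkQ (s • b) = 0 := by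
    rw [map_smul]; exact Module.mem_annihilator.1 hs _
  obtain ⟨a, ha⟩ := (Submodule.Quotient.mk_eq_zero N).1 h2
  exact ⟨a, by rw [Algebra.smul_def] at ha; exact ha⟩

variable {X Y S : Scheme.{u}} {f : X ⟶ Y}

theorem isPullback_fromSpec {V : Y.Opens} (hV : IsAffineOpen V) (hW : IsAffineOpen (f ⁻¹ᵁ V)) :
    IsPullback hW.fromSpec (Spec.map (f.app V)) f hV.fromSpec := by
  have hcomm : hW.isoSpec.inv ≫ f ∣_ V = Spec.map (f.app V) ≫ hV.isoSpec.inv := by
    rw [← cancel_mono V.ι, Category.assoc, Category.assoc, morphismRestrict_ι, hV.isoSpec_inv_ι,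
      ← Category.assoc, hW.isoSpec_inv_ι, Scheme.Hom.app_eq_appLE, hV.SpecMap_appLE_fromSpec f hW]
  refine IsPullback.of_iso (isPullback_morphismRestrict f V).flip hW.isoSpec (Iso.refl X) hV.isoSpec (Iso.refl Y)
    ?_ ?_ ?_ ?_
  · rw [Iso.refl_hom, Category.comp_id, ← hW.isoSpec_inv_ι, Iso.hom_inv_id_assoc]
  · rw [← cancel_mono hV.isoSpec.inv, Category.assoc, Category.assoc, Iso.hom_inv_id, Category.comp_id,
      ← hcomm, Iso.hom_inv_id_assoc]
  · rw [Iso.refl_hom, Iso.refl_hom, Category.comp_id, Category.id_comp]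
  · rw [Iso.refl_hom, Category.comp_id, ← hV.isoSpec_inv_ι, Iso.hom_inv_id_assoc]

theorem surjective_of_isClosedImmersion_SpecMap {R T : CommRingCat.{u}} (ψ : R ⟶ T)
    [IsClosedImmersion (Spec.map ψ)] : Function.Surjective ψ.hom := by
  have h := (Spec.map ψ).app_surjective ⊤ (isAffineOpen_top _)
  have e : ψ = (Scheme.ΓSpecIso R).inv ≫ (Spec.map ψ).appTop ≫ (Scheme.ΓSpecIso T).hom := by
    rw [Scheme.ΓSpecIso_naturality, Iso.inv_hom_id_assoc]
  rw [e]
  exact ((ConcreteCategory.bijective_of_isIso (Scheme.ΓSpecIso T).hom).surjective.comp h).comp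
    (ConcreteCategory.bijective_of_isIso (Scheme.ΓSpecIso R).inv).surjective

/-- a morphism from the spectrum of a field factors through the residue field of its image -/
theorem exists_lift_fromSpecResidueField (K : Type u) [Field K] (q : Spec (CommRingCat.of K) ⟶ S) {s : S}
    (hq : q (IsLocalRing.closedPoint K) = s) :
    ∃ r : Spec (CommRingCat.of K) ⟶ Spec (S.residueField s), r ≫ S.fromSpecResidueField s = q := by
  subst hq
  exact ⟨_, Scheme.descResidueField_stalkClosedPointTo_fromSpecResidueField K S q⟩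

theorem isPullback_fiberMapOver (g : X ⟶ S) (h : Y ⟶ S) (w : f ≫ h = g) (s : S) :
    IsPullback (g.fiberι s) (CohIII.fiberMapOver f g h w s) f (h.fiberι s) := by
  refine IsPullback.of_bot (v₂₁ := h.fiberToSpecResidueField s) (v₂₂ := h)
    (h₂₁ := h.fiberι s) (h₃₁ := S.fromSpecResidueField s) ?_ ?_
    (IsPullback.of_hasPullback h (S.fromSpecResidueField s))
  · have e : CohIII.fiberMapOver f g h w s ≫ h.fiberToSpecResidueField s = g.fiberToSpecResidueField s :=
      (pullback.lift_snd _ _ _).trans (Category.comp_id _)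
    rw [e, w]
    exact IsPullback.of_hasPullback g (S.fromSpecResidueField s)
  · exact (pullback.lift_fst _ _ _).symm

theorem exists_nhd_isFinite_of_fibre [IsProper f] (g : X ⟶ S) (h : Y ⟶ S) (w : f ≫ h = g) (s : S)
    [IsFinite (CohIII.fiberMapOver f g h w s)] {y : Y} (hy : h y = s) :
    ∃ V : Y.Opens, y ∈ V ∧ IsFinite (f ∣_ V) := by
  refine exists_isFinite_morphismRestrict_of_finite_preimage_singleton f y ?_
  obtain ⟨c, rfl⟩ : y ∈ Set.range (h.fiberι s) := by rw [Scheme.Hom.range_fiberι]; exact hy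
  refine (((CohIII.fiberMapOver f g h w s).finite_preimage_singleton c).image (g.fiberι s)).subset ?_
  intro x hx
  obtain ⟨z, hz, hz'⟩ := Scheme.exists_preimage_of_isPullback (isPullback_fiberMapOver g h w s) x c hx
  exact ⟨z, hz', hz⟩

theorem exists_nhd_isClosedImmersion_of_fibre [IsProper f] (g : X ⟶ S) (h : Y ⟶ S) (w : f ≫ h = g) (s : S)
    [IsClosedImmersion (CohIII.fiberMapOver f g h w s)] {y : Y} (hy : h y = s) :
    ∃ V : Y.Opens, y ∈ V ∧ IsClosedImmersion (f ∣_ V) := by
  obtain ⟨V₀, hy₀, hfin⟩ := exists_nhd_isFinite_of_fibre g h w s hy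
  obtain ⟨V, hV, hyV, hVV⟩ := exists_isAffineOpen_mem_and_subset (U := V₀) hy₀
  haveI : IsFinite (f ∣_ V) := restrict_mono (Q := @IsFinite) hVV hfin
  haveI : IsAffine (V : Scheme) := hV
  have hW : IsAffineOpen (f ⁻¹ᵁ V) := isAffine_of_isAffineHom (f ∣_ V)
  have sqW := isPullback_fromSpec hV hW
  haveI : IsFinite (Spec.map (f.app V)) := by
    refine MorphismProperty.of_isPullback (P := @IsFinite) (IsPullback.of_right (h₁₂ := (f ⁻¹ᵁ V).ι) (h₁₁ := hW.isoSpec.inv)
      (h₂₂ := V.ι) (h₂₁ := hV.isoSpec.inv) ?_ ?_ (isPullback_morphismRestrict f V).flip).flip.flip inferInstance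
    · rw [hW.isoSpec_inv_ι, hV.isoSpec_inv_ι]; exact sqW
    · rw [← cancel_mono V.ι, Category.assoc, Category.assoc, morphismRestrict_ι, hV.isoSpec_inv_ι,
        ← Category.assoc, hW.isoSpec_inv_ι, sqW.w]
  algebraize [(f.app V).hom]
  haveI : Module.Finite Γ(Y, V) Γ(X, f ⁻¹ᵁ V) :=
    RingHom.finite_algebraMap.1 ((IsFinite.SpecMap_iff _).1 (inferInstance : IsFinite (Spec.map (f.app V))))
  let P := (hV.primeIdealOf ⟨y, hyV⟩).asIdeal
  let q : Spec (CommRingCat.of P.ResidueField) ⟶ Y :=
    Spec.map (CommRingCat.ofHom (algebraMap Γ(Y, V) P.ResidueField)) ≫ hV.fromSpec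
  have hq : q (IsLocalRing.closedPoint P.ResidueField) = y := by
    change hV.fromSpec (PrimeSpectrum.comap (algebraMap Γ(Y, V) P.ResidueField)
      (IsLocalRing.closedPoint P.ResidueField)) = y
    have : PrimeSpectrum.comap (algebraMap Γ(Y, V) P.ResidueField) (IsLocalRing.closedPoint P.ResidueField) =
        hV.primeIdealOf ⟨y, hyV⟩ := PrimeSpectrum.ext (by
      change (IsLocalRing.maximalIdeal P.ResidueField).comap (algebraMap Γ(Y, V) P.ResidueField) = P
      rw [IsLocalRing.maximalIdeal_eq_bot, ← RingHom.ker_eq_comap_bot, Ideal.ker_algebraMap_residueField])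
    rw [this, hV.fromSpec_primeIdealOf]
  obtain ⟨r, hr⟩ := exists_lift_fromSpecResidueField P.ResidueField (q ≫ h)
    (s := s) (by
      show h (q (IsLocalRing.closedPoint P.ResidueField)) = s
      exact (congrArg h hq).trans hy)
  let q' : Spec (CommRingCat.of P.ResidueField) ⟶ h.fiber s := pullback.lift q r hr.symm
  have hq' : q' ≫ h.fiberι s = q := pullback.lift_fst _ _ _
  have big := (isPullback_SpecMap_of_isPushout _ _ _ _
    (CommRingCat.isPushout_tensorProduct Γ(Y, V) P.ResidueField Γ(X, f ⁻¹ᵁ V))).flip.paste_horiz sqW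
  have sqf := isPullback_fiberMapOver g h w s
  haveI : IsClosedImmersion (Spec.map (CommRingCat.ofHom
      (Algebra.TensorProduct.includeLeftRingHom : P.ResidueField →+* P.ResidueField ⊗[Γ(Y, V)] Γ(X, f ⁻¹ᵁ V)))) := by
    have big' : IsPullback (Spec.map (CommRingCat.ofHom (Algebra.TensorProduct.includeRight :
          Γ(X, f ⁻¹ᵁ V) →ₐ[Γ(Y, V)] P.ResidueField ⊗[Γ(Y, V)] Γ(X, f ⁻¹ᵁ V)).toRingHom) ≫ hW.fromSpec)
        (Spec.map (CommRingCat.ofHom (Algebra.TensorProduct.includeLeftRingHom :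
          P.ResidueField →+* P.ResidueField ⊗[Γ(Y, V)] Γ(X, f ⁻¹ᵁ V)))) f (q' ≫ h.fiberι s) := by
      rw [hq']; exact big
    exact MorphismProperty.of_isPullback (P := @IsClosedImmersion)
      (IsPullback.of_right' big' sqf) inferInstance
  obtain ⟨t, ht, ht'⟩ := exists_notMem_of_residueField P (surjective_of_isClosedImmersion_SpecMap (CommRingCat.ofHom
      (Algebra.TensorProduct.includeLeftRingHom : P.ResidueField →+* P.ResidueField ⊗[Γ(Y, V)] Γ(X, f ⁻¹ᵁ V))))
  exact ⟨Y.basicOpen t, (mem_basicOpen_iff hV hyV t).2 ht, isClosedImmersion_basicOpen hV hW t ht'⟩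

end Groth.Agent.ThickSys
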