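import Mathlib.RingTheory.Noetherian.OfPrime
import Mathlib.RingTheory.Nilpotent.Defs
import Mathlib.RingTheory.Ideal.Quotient.Operations
import Mathlib.RingTheory.Ideal.Quotient.Noetherian
import Mathlib.RingTheory.FiniteType

/-!
# Nilpotent Nakayama and Noetherian thickenings
-/

universe u

namespace Groth.Agent.ThickSys

variable {R : Type u} [CommRing R]

/-- An ideal inside the radical of a nilpotent ideal generated modulo its square is generated. -/
theorem eq_of_le_sup_sq {I G : Ideal R} (hI : IsNilpotent I) (hG : G ≤ I) (h : I ≤ G ⊔ I ^ 2) : I = G := by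
  obtain ⟨N, hN⟩ := hI
  have key : ∀ k : ℕ, I ≤ G ⊔ I ^ (k + 2) := by
    intro k
    induction k with
    | zero => exact h
    | succ k ih =>
      refine ih.trans (sup_le le_sup_left ?_)
      calc I ^ (k + 2) = I ^ (k + 1) * I := pow_succ I (k + 1)
        _ ≤ I ^ (k + 1) * (G ⊔ I ^ 2) := Ideal.mul_mono_right h
        _ = I ^ (k + 1) * G ⊔ I ^ (k + 1) * I ^ 2 := Ideal.mul_sup _ _ _
        _ ≤ G ⊔ I ^ (k + 1 + 2) := sup_le_sup Ideal.mul_le_right (by rw [← pow_add])
  refine le_antisymm ((key N).trans (sup_le le_rfl ?_)) hG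
  rw [pow_add, hN, Ideal.zero_eq_bot, Ideal.bot_mul]
  exact bot_le

/-- A nilpotent ideal with finitely generated image modulo a power `≥ 2` is finitely generated. -/
theorem fg_of_isNoetherian_quotient_pow {I : Ideal R} (hI : IsNilpotent I) {m : ℕ} (hm : 2 ≤ m)
    [IsNoetherianRing (R ⧸ I ^ m)] : I.FG := by
  classical
  obtain ⟨t, ht⟩ := IsNoetherian.noetherian (I.map (Ideal.Quotient.mk (I ^ m)))
  have hex : ∀ x ∈ t, ∃ y ∈ I, Ideal.Quotient.mk (I ^ m) y = x := fun x hx =>
    (Ideal.mem_map_iff_of_surjective _ Ideal.Quotient.mk_surjective).1 (ht ▸ Ideal.subset_span hx)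
  choose y hy hyx using hex
  refine ⟨t.attach.image fun x => y x.1 x.2, ?_⟩
  have hle : Ideal.span ↑(t.attach.image fun x => y x.1 x.2) ≤ I := by
    rw [Ideal.span_le]
    intro z hz
    obtain ⟨x, -, rfl⟩ := Finset.mem_image.1 hz
    exact hy _ _
  refine (eq_of_le_sup_sq hI hle fun a ha => ?_).symm
  have h2 : Ideal.Quotient.mk (I ^ m) a ∈
      (Ideal.span ↑(t.attach.image fun x => y x.1 x.2)).map (Ideal.Quotient.mk (I ^ m)) := by
    refine (?_ : Ideal.span (t : Set (R ⧸ I ^ m)) ≤ _) (ht.ge (Ideal.mem_map_of_mem _ ha))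
    rw [Ideal.span_le]
    intro x hx
    rw [← hyx x hx]
    exact Ideal.mem_map_of_mem _ (Ideal.subset_span (Finset.mem_image_of_mem _ (Finset.mem_attach _ ⟨x, hx⟩)))
  obtain ⟨g, hg, hga⟩ := (Ideal.mem_map_iff_of_surjective _ Ideal.Quotient.mk_surjective).1 h2
  have h3 : a - g ∈ I ^ m := Ideal.Quotient.eq.1 hga.symm
  exact Submodule.mem_sup.2 ⟨g, hg, a - g, Ideal.pow_le_pow_right hm h3, by ring⟩

/-- A ring with a finitely generated nilpotent ideal and Noetherian quotient is Noetherian. -/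
theorem isNoetherianRing_of_nilpotent {I : Ideal R} (hI : IsNilpotent I) (hfg : I.FG)
    [IsNoetherianRing (R ⧸ I)] : IsNoetherianRing R := by
  refine IsNoetherianRing.of_prime fun P hP => ?_
  obtain ⟨N, hN⟩ := hI
  have hIP : I ≤ P := fun x hx => hP.mem_of_pow_mem N (by
    have := Ideal.pow_mem_pow hx N
    rw [hN] at this
    rw [show x ^ N = 0 from this]
    exact P.zero_mem)
  classical
  obtain ⟨t, ht⟩ := IsNoetherian.noetherian (P.map (Ideal.Quotient.mk I))
  choose g hg using fun x : R ⧸ I => Ideal.Quotient.mk_surjective x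
  have h1 : (Ideal.span ((t.image g : Finset R) : Set R)).map (Ideal.Quotient.mk I) = P.map (Ideal.Quotient.mk I) := by
    rw [Ideal.map_span, Finset.coe_image, ← Set.image_comp,
      show Ideal.Quotient.mk I ∘ g = id from funext hg, Set.image_id]
    exact ht
  have h2 := congrArg (Ideal.comap (Ideal.Quotient.mk I)) h1
  rw [Ideal.comap_map_of_surjective _ Ideal.Quotient.mk_surjective, Ideal.comap_map_of_surjective _
    Ideal.Quotient.mk_surjective, ← RingHom.ker_eq_comap_bot, Ideal.mk_ker, sup_eq_left.2 hIP] at h2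
  exact h2 ▸ Submodule.FG.sup ⟨t.image g, rfl⟩ hfg

/-- Subalgebras exhausting an algebra modulo a nilpotent ideal of the base exhaust it. -/
theorem subalgebra_eq_top {A B : Type u} [CommRing A] [CommRing B] [Algebra A B] {I : Ideal A}
    (hI : IsNilpotent I) (C : Subalgebra A B)
    (h : ∀ b : B, ∃ c ∈ C, b - c ∈ I.map (algebraMap A B)) : C = ⊤ := by
  obtain ⟨N, hN⟩ := hI
  have step : ∀ (k : ℕ) (z : B), z ∈ (I ^ k).map (algebraMap A B) →
      ∃ c ∈ C, z - c ∈ (I ^ (k + 1)).map (algebraMap A B) := by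
    intro k z hz
    refine Submodule.span_induction ?_ ?_ ?_ ?_ hz
    · rintro _ ⟨a, ha, rfl⟩
      exact ⟨algebraMap A B a, C.algebraMap_mem a, by rw [sub_self]; exact Ideal.zero_mem _⟩
    · exact ⟨0, C.zero_mem, by rw [sub_self]; exact Ideal.zero_mem _⟩
    · rintro a b - - ⟨c, hc, hac⟩ ⟨d, hd, hbd⟩
      exact ⟨c + d, C.add_mem hc hd, by rw [add_sub_add_comm]; exact add_mem hac hbd⟩
    · intro b a ha ⟨c, hc, hac⟩
      obtain ⟨e, he, hbe⟩ := h b
      refine ⟨e * c, C.mul_mem he hc, ?_⟩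
      rw [smul_eq_mul, show b * a - e * c = e * (a - c) + (b - e) * a by ring]
      refine add_mem (Ideal.mul_mem_left _ _ hac) ?_
      rw [pow_succ', Ideal.map_mul]
      exact Ideal.mul_mem_mul hbe ha
  have key : ∀ (k : ℕ) (b : B), ∃ c ∈ C, b - c ∈ (I ^ k).map (algebraMap A B) := by
    intro k
    induction k with
    | zero => exact fun b => ⟨0, C.zero_mem, by rw [pow_zero, Ideal.one_eq_top, Ideal.map_top]; trivial⟩
    | succ k ih =>
      intro b
      obtain ⟨c, hc, hbc⟩ := ih b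
      obtain ⟨d, hd, hd'⟩ := step k _ hbc
      exact ⟨c + d, C.add_mem hc hd, by rwa [← sub_sub]⟩
  refine eq_top_iff.2 fun b _ => ?_
  obtain ⟨c, hc, hbc⟩ := key N b
  rw [hN, Ideal.zero_eq_bot, Ideal.map_bot] at hbc
  rwa [sub_eq_zero.1 hbc]

/-- Finite type modulo a nilpotent ideal of the base implies finite type. -/
theorem finiteType_of_nilpotent {A B : Type u} [CommRing A] [CommRing B] [Algebra A B] {I : Ideal A}
    (hI : IsNilpotent I) [Algebra.FiniteType A (B ⧸ I.map (algebraMap A B))] : Algebra.FiniteType A B := by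
  classical
  obtain ⟨s, hs⟩ := ‹Algebra.FiniteType A (B ⧸ I.map (algebraMap A B))›.out
  choose g hg using fun x : B ⧸ I.map (algebraMap A B) => Ideal.Quotient.mk_surjective x
  refine ⟨⟨s.image g, subalgebra_eq_top hI _ fun b => ?_⟩⟩
  have : Ideal.Quotient.mkₐ A (I.map (algebraMap A B)) b ∈
      (Algebra.adjoin A ((s.image g : Finset B) : Set B)).map (Ideal.Quotient.mkₐ A _) := by
    rw [AlgHom.map_adjoin, Finset.coe_image, ← Set.image_comp]
    rw [show (Ideal.Quotient.mkₐ A (I.map (algebraMap A B))) ∘ g = id from funext hg, Set.image_id, hs]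
    trivial
  obtain ⟨c, hc, hcb⟩ := Subalgebra.mem_map.1 this
  exact ⟨c, hc, Ideal.Quotient.eq.1 hcb.symm⟩

end Groth.Agent.ThickSys
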